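import Groth.Prelude.Def_SGA4a
import Mathlib.CategoryTheory.Limits.Shapes.Equalizers
import Mathlib.CategoryTheory.Limits.Shapes.Pullback.HasPullback

/-!
# Coverings in a category satisfying Giraud's axioms
-/

set_option autoImplicit false

universe w v u

open CategoryTheory CategoryTheory.Limits Opposite

namespace Groth.Agent.Giraud

variable {E : Type v} [Category.{u} E] [HasFiniteLimits E] {C : Type u} [SmallCategory C]
  (G : C ⥤ E)

/-- Giraud's axioms, for a given functor of generators. -/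
structure IsGiraud : Prop where
  coprod : SGA4.HasDisjointUniversalCoproducts.{v, u} E
  equivRel : ∀ (R A : E) (p₁ p₂ : R ⟶ A),
    SGA4.IsEquivRel p₁ p₂ → SGA4.IsEffectiveUniversalEquivRel p₁ p₂
  detect : ∀ {B X : E} (m : B ⟶ X) [Mono m],
    (∀ (c : C) (t : G.obj c ⟶ X), ∃ g, g ≫ m = t) → IsIso m

/-- A set of maps from generators covers: no proper subobject contains all of them. -/
def Cov {X : E} (S : ∀ ⦃c : C⦄, (G.obj c ⟶ X) → Prop) : Prop :=
  ∀ ⦃B : E⦄ (m : B ⟶ X) [Mono m], (∀ ⦃c : C⦄ (t : G.obj c ⟶ X), S t → ∃ g, g ≫ m = t) → IsIso m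

variable {G}

omit [HasFiniteLimits E] in
theorem cov_mono {X : E} {S S' : ∀ ⦃c : C⦄, (G.obj c ⟶ X) → Prop}
    (h : ∀ ⦃c : C⦄ (t : G.obj c ⟶ X), S t → S' t) (hS : Cov G S) : Cov G S' :=
  fun _ m _ hm => hS m fun _ t ht => hm t (h t ht)

theorem cov_hom_ext {X Y : E} {S : ∀ ⦃c : C⦄, (G.obj c ⟶ X) → Prop} (hS : Cov G S) (a b : X ⟶ Y)
    (h : ∀ ⦃c : C⦄ (t : G.obj c ⟶ X), S t → t ≫ a = t ≫ b) : a = b := by
  have := hS (equalizer.ι a b) fun c t ht => ⟨equalizer.lift t (h t ht), equalizer.lift_ι _ _⟩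
  rw [← cancel_epi (equalizer.ι a b), equalizer.condition]

/-- An effective epimorphism factors through no proper subobject. -/
theorem isIso_of_effectiveEpi_fac {W Y B : E} (q : W ⟶ Y) [EffectiveEpi q] (n : B ⟶ Y) [Mono n]
    (h : W ⟶ B) (e : h ≫ n = q) : IsIso n := by
  have hk : ∀ {T : E} (g₁ g₂ : T ⟶ W), g₁ ≫ q = g₂ ≫ q → g₁ ≫ h = g₂ ≫ h := fun g₁ g₂ hg => by
    rw [← cancel_mono n, Category.assoc, Category.assoc, e, hg]
  have hs : EffectiveEpi.desc q h hk ≫ n = 𝟙 Y := by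
    rw [← cancel_epi q, ← Category.assoc, EffectiveEpi.fac, e, Category.comp_id]
  exact ⟨EffectiveEpi.desc q h hk,
    by rw [← cancel_mono n, Category.assoc, hs, Category.comp_id, Category.id_comp], hs⟩

variable (hG : IsGiraud G)

include hG

theorem cov_top (X : E) : Cov G (X := X) fun c (_ : G.obj c ⟶ X) => True :=
  fun _ m _ hm => hG.detect m fun _ t => hm t trivial

theorem hom_ext_gens {X Y : E} (a b : X ⟶ Y) (h : ∀ (c : C) (t : G.obj c ⟶ X), t ≫ a = t ≫ b) :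
    a = b :=
  cov_hom_ext (cov_top hG X) a b fun c t _ => h c t

theorem mono_of_gens {X Y : E} (j : X ⟶ Y)
    (h : ∀ (c : C) (a b : G.obj c ⟶ X), a ≫ j = b ≫ j → a = b) : Mono j :=
  ⟨fun {W} a b e => hom_ext_gens hG a b fun c t => h c _ _ (by simp [e])⟩

/-- A map lifts through a monomorphism as soon as its composites with generators do. -/
theorem lift_of_gens {B X W : E} (m : B ⟶ X) [Mono m] (f : W ⟶ X)
    (h : ∀ (c : C) (t : G.obj c ⟶ W), ∃ g, g ≫ m = t ≫ f) : ∃ g, g ≫ m = f := by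
  have := hG.detect (pullback.fst f m) fun c t => by
    obtain ⟨g, hg⟩ := h c t
    exact ⟨pullback.lift t g hg.symm, pullback.lift_fst _ _ _⟩
  exact ⟨inv (pullback.fst f m) ≫ pullback.snd f m, by
    rw [Category.assoc, ← pullback.condition, IsIso.inv_hom_id_assoc]⟩

/-- Every morphism is a universal effective epimorphism followed by a monomorphism. -/
theorem exists_image {A Z : E} (f : A ⟶ Z) :
    ∃ (B : E) (π : A ⟶ B) (m : B ⟶ Z), π ≫ m = f ∧ Mono m ∧
      ∀ (B' : E) (g : B' ⟶ B), EffectiveEpi (pullback.snd π g) := by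
  have hR : SGA4.IsEquivRel (pullback.fst f f) (pullback.snd f f) := fun T => by
    constructor
    · intro a b hab
      exact pullback.hom_ext (congrArg Prod.fst hab) (congrArg Prod.snd hab)
    · have key : ∀ a b : T ⟶ A,
          (∃ r, r ≫ pullback.fst f f = a ∧ r ≫ pullback.snd f f = b) ↔ a ≫ f = b ≫ f := fun a b =>
        ⟨fun ⟨r, ha, hb⟩ => by rw [← ha, ← hb, Category.assoc, Category.assoc, pullback.condition],
          fun e => ⟨pullback.lift a b e, pullback.lift_fst _ _ _, pullback.lift_snd _ _ _⟩⟩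
      exact ⟨fun a => (key a a).2 rfl, fun h => (key _ _).2 ((key _ _).1 h).symm,
        fun h h' => (key _ _).2 (((key _ _).1 h).trans ((key _ _).1 h'))⟩
  obtain ⟨B, π, hpb, hpo, hu⟩ := hG.equivRel _ _ _ _ hR
  let m : B ⟶ Z := hpo.desc f f pullback.condition
  have hm : π ≫ m = f := hpo.inl_desc _ _ _
  refine ⟨B, π, m, hm, ⟨fun {W} x y e => ?_⟩, hu⟩
  let q := pullback.snd π x
  let x' := pullback.fst π x
  let q' := pullback.snd π (q ≫ y)
  let y' := pullback.fst π (q ≫ y)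
  have := hu _ x
  have := hu _ (q ≫ y)
  rw [← cancel_epi q, ← cancel_epi q']
  have h1 : q' ≫ q ≫ x = (q' ≫ x') ≫ π := by
    rw [Category.assoc, show x' ≫ π = q ≫ x from pullback.condition]
  have h2 : q' ≫ q ≫ y = y' ≫ π := pullback.condition.symm
  have h3 : (q' ≫ x') ≫ f = y' ≫ f := by
    rw [← hm, ← Category.assoc, ← Category.assoc y', ← h1, ← h2]
    simp [e]
  rw [h1, h2, ← pullback.lift_fst _ _ h3, Category.assoc, hpb.w, ← Category.assoc, pullback.lift_snd]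

/-- The pulled back covering. -/
theorem cov_pullback {X Y : E} {S : ∀ ⦃c : C⦄, (G.obj c ⟶ X) → Prop} (hS : Cov G S) (g : Y ⟶ X) :
    Cov G (X := Y) fun c t =>
      ∃ (c' : C) (s : G.obj c' ⟶ X) (h : G.obj c ⟶ G.obj c'), S s ∧ t ≫ g = h ≫ s := by
  intro B n _ hn
  obtain ⟨cf, hcf, -, huniv⟩ := hG.coprod (Σ c : C, {t : G.obj c ⟶ X // S t}) (fun σ => G.obj σ.1)
  let p : cf.pt ⟶ X := Cofan.IsColimit.desc hcf fun σ => σ.2.1
  have hp : ∀ σ, cf.inj σ ≫ p = σ.2.1 := fun σ => Cofan.IsColimit.fac hcf _ σ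
  obtain ⟨B₀, π, m, hfac, hm, hu⟩ := exists_image hG p
  have := hS m fun c t ht => ⟨cf.inj ⟨c, t, ht⟩ ≫ π, by rw [Category.assoc, hfac]; exact hp _⟩
  let g' : Y ⟶ B₀ := g ≫ inv m
  have hq := hu _ g'
  -- the pullback of the coproduct is the coproduct of the pullbacks
  let P : (Σ c : C, {t : G.obj c ⟶ X // S t}) → E := fun σ => pullback (cf.inj σ ≫ π) g'
  let d : Cofan P := Cofan.mk (pullback π g') fun σ =>
    pullback.lift (pullback.fst (cf.inj σ ≫ π) g' ≫ cf.inj σ) (pullback.snd _ _)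
      (by rw [Category.assoc]; exact pullback.condition)
  obtain ⟨hd⟩ := IsUniversalColimit.nonempty_isColimit_of_isPullback_left (a := cf) huniv
    (fun σ => cf.inj σ ≫ π) π g' (fun σ => pullback.snd (cf.inj σ ≫ π) g')
    (fun σ => pullback.fst (cf.inj σ ≫ π) g')
    (fun σ => (IsPullback.of_hasPullback (cf.inj σ ≫ π) g').flip)
    (IsPullback.of_hasPullback π g').flip d (Iso.refl _) (fun _ => rfl)
    (fun σ => (congrArg (_ ≫ ·) (Category.id_comp _)).trans (pullback.lift_snd _ _ _))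
    (fun σ => (congrArg (_ ≫ ·) (Category.id_comp _)).trans (pullback.lift_fst _ _ _))
  have hpiece : ∀ σ, ∃ l, l ≫ n = pullback.snd (cf.inj σ ≫ π) g' := fun σ =>
    lift_of_gens hG n _ fun c t => hn _ ⟨σ.1, σ.2.1, t ≫ pullback.fst _ _, σ.2.2, by
      have e := t ≫= (pullback.condition (f := cf.inj σ ≫ π) (g := g')) =≫ m
      simp only [g', Category.assoc, IsIso.inv_hom_id, Category.comp_id, hfac, hp] at e
      rw [Category.assoc, Category.assoc]
      exact e.symm⟩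
  choose l hl using hpiece
  refine isIso_of_effectiveEpi_fac (pullback.snd π g') n (Cofan.IsColimit.desc hd l) ?_
  refine Cofan.IsColimit.hom_ext hd _ _ fun σ => ?_
  rw [← Category.assoc, Cofan.IsColimit.fac, hl]
  exact (pullback.lift_snd _ _ _).symm

/-- A composite of coverings is a covering. -/
theorem cov_bind {X : E} {S : ∀ ⦃c : C⦄, (G.obj c ⟶ X) → Prop} (hS : Cov G S)
    {T : ∀ ⦃c : C⦄, (G.obj c ⟶ X) → Prop}
    (h : ∀ ⦃c : C⦄ (s : G.obj c ⟶ X), S s → Cov G (X := G.obj c) fun _ t => T (t ≫ s)) :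
    Cov G T := by
  intro B m _ hm
  refine hS m fun c s hs => ?_
  have := h s hs (pullback.fst s m) fun c' t ht => by
    obtain ⟨g, hg⟩ := hm _ ht
    exact ⟨pullback.lift t g hg.symm, pullback.lift_fst _ _ _⟩
  exact ⟨inv (pullback.fst s m) ≫ pullback.snd s m, by
    rw [Category.assoc, ← pullback.condition, IsIso.inv_hom_id_assoc]⟩

/-- The two covers of a generator are refined by a common one. -/
theorem cov_inf {X : E} {S T : ∀ ⦃c : C⦄, (G.obj c ⟶ X) → Prop} (hS : Cov G S) (hT : Cov G T)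
    (hSd : ∀ ⦃c c' : C⦄ (s : G.obj c ⟶ X) (h : G.obj c' ⟶ G.obj c), S s → S (h ≫ s))
    (hTd : ∀ ⦃c c' : C⦄ (s : G.obj c ⟶ X) (h : G.obj c' ⟶ G.obj c), T s → T (h ≫ s)) :
    Cov G (X := X) fun _ t => S t ∧ T t :=
  cov_bind hG hS fun c s hs => cov_mono (fun c' t ⟨c'', r, h, hr, e⟩ =>
    ⟨hSd s t hs, e ▸ hTd r h hr⟩) (cov_pullback hG hT s)

/-- Lifting generalized points of a coproduct to a summand, locally. -/
theorem cov_cofan {ι : Type u} {F : ι → E} {cf : Cofan F} (hcf : IsColimit cf) {c : C}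
    (x : G.obj c ⟶ cf.pt) :
    Cov G (X := G.obj c) fun d a => ∃ (i : ι) (y : G.obj d ⟶ F i), a ≫ x = y ≫ cf.inj i := by
  have hcov : Cov G (X := cf.pt) fun d a => ∃ (i : ι) (y : G.obj d ⟶ F i), a = y ≫ cf.inj i := by
    intro B m _ hm
    have key : ∀ i, ∃ g, g ≫ m = cf.inj i := fun i =>
      lift_of_gens hG m _ fun d t => hm _ ⟨i, t, rfl⟩
    choose g hg using key
    have hs : Cofan.IsColimit.desc hcf g ≫ m = 𝟙 _ := Cofan.IsColimit.hom_ext hcf _ _ fun i => by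
      rw [← Category.assoc, Cofan.IsColimit.fac, hg, Category.comp_id]
    exact ⟨Cofan.IsColimit.desc hcf g,
      by rw [← cancel_mono m, Category.assoc, hs, Category.comp_id, Category.id_comp], hs⟩
  refine cov_mono (fun d a ⟨c', s, h, ⟨i, y, hs⟩, e⟩ => ?_) (cov_pullback hG hcov x)
  exact ⟨i, h ≫ y, by rw [e, hs, Category.assoc]⟩

/-- Points of a quotient lift locally. -/
theorem cov_effectiveEpi {A B : E} (π : A ⟶ B)
    (hu : ∀ (B' : E) (g : B' ⟶ B), EffectiveEpi (pullback.snd π g)) {c : C} (b : G.obj c ⟶ B) :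
    Cov G (X := G.obj c) fun d a => ∃ x : G.obj d ⟶ A, a ≫ b = x ≫ π := by
  intro N n _ hn
  obtain ⟨l, hl⟩ := lift_of_gens hG n (pullback.snd π b) fun d t =>
    hn _ ⟨t ≫ pullback.fst π b, by simp [pullback.condition]⟩
  have := hu _ b
  exact isIso_of_effectiveEpi_fac (pullback.snd π b) n l hl

/-- A generator mapping to two distinct summands is covered by nothing. -/
theorem cov_of_disjoint {ι : Type u} {F : ι → E} {cf : Cofan F} (hcf : IsColimit cf)
    [CoproductDisjoint F] {i j : ι} (hij : i ≠ j) {X : E} (a : X ⟶ F i) (b : X ⟶ F j)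
    (e : a ≫ cf.inj i = b ≫ cf.inj j) : Cov G (X := X) fun _ _ => False := by
  obtain ⟨hI⟩ := CoproductDisjoint.nonempty_isInitial_of_ne hcf hij _
    (IsPullback.of_hasPullback (cf.inj i) (cf.inj j)).isLimit
  change IsInitial (pullback (cf.inj i) (cf.inj j)) at hI
  let f : X ⟶ pullback (cf.inj i) (cf.inj j) := pullback.lift a b e
  obtain ⟨c₀, hc₀, -, hu₀⟩ := hG.coprod PEmpty.{u + 1} PEmpty.elim
  let k : c₀.pt ≅ pullback (cf.inj i) (cf.inj j) :=
    { hom := Cofan.IsColimit.desc hc₀ fun z => z.elim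
      inv := hI.to _
      hom_inv_id := Cofan.IsColimit.hom_ext hc₀ _ _ fun z => z.elim
      inv_hom_id := hI.hom_ext _ _ }
  let c' : Cofan (PEmpty.elim : PEmpty.{u + 1} → E) := Cofan.mk X fun z => z.elim
  obtain ⟨hc'⟩ := hu₀ c' (𝟙 _) (f ≫ k.inv) (by ext ⟨z⟩; exact z.elim) (.of_discrete _)
    (fun ⟨z⟩ => z.elim)
  intro B m _ _
  have hs : Cofan.IsColimit.desc hc' (fun z => z.elim) ≫ m = 𝟙 X :=
    Cofan.IsColimit.hom_ext hc' _ _ fun z => z.elim
  exact ⟨Cofan.IsColimit.desc hc' (fun z => z.elim),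
    by rw [← cancel_mono m, Category.assoc, hs, Category.comp_id, Category.id_comp], hs⟩

/-- Descent: every compatible family on a covering glues uniquely. -/
theorem exists_glue {X A : E} {S : ∀ ⦃c : C⦄, (G.obj c ⟶ X) → Prop} (hS : Cov G S)
    (φ : ∀ ⦃c : C⦄ (t : G.obj c ⟶ X), S t → (G.obj c ⟶ A))
    (compat : ∀ ⦃c c' d : C⦄ (t : G.obj c ⟶ X) (ht : S t) (t' : G.obj c' ⟶ X) (ht' : S t')
      (a : G.obj d ⟶ G.obj c) (b : G.obj d ⟶ G.obj c'), a ≫ t = b ≫ t' → a ≫ φ t ht = b ≫ φ t' ht') :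
    ∃! g : X ⟶ A, ∀ ⦃c : C⦄ (t : G.obj c ⟶ X) (ht : S t), t ≫ g = φ t ht := by
  obtain ⟨cf, hcf, -, -⟩ := hG.coprod (Σ c : C, {t : G.obj c ⟶ X // S t}) (fun σ => G.obj σ.1)
  let p : cf.pt ⟶ X ⨯ A := Cofan.IsColimit.desc hcf fun σ => prod.lift σ.2.1 (φ σ.2.1 σ.2.2)
  have hp : ∀ σ, cf.inj σ ≫ p = prod.lift σ.2.1 (φ σ.2.1 σ.2.2) := fun σ =>
    Cofan.IsColimit.fac hcf _ σ
  obtain ⟨B, π, j, hfac, hj, hu⟩ := exists_image hG p
  have hmono : Mono (j ≫ prod.fst) := by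
    refine mono_of_gens hG _ fun d x y hxy => ?_
    refine cov_hom_ext (cov_effectiveEpi hG π hu x) x y ?_
    rintro d₁ a ⟨x', hx'⟩
    refine cov_hom_ext (cov_effectiveEpi hG π hu (a ≫ y)) (a ≫ x) (a ≫ y) ?_
    rintro d₂ a₂ ⟨y', hy'⟩
    refine cov_hom_ext (cov_cofan hG hcf (a₂ ≫ x')) (a₂ ≫ a ≫ x) (a₂ ≫ a ≫ y) ?_
    rintro d₃ a₃ ⟨σ, u₁, hu₁⟩
    refine cov_hom_ext (cov_cofan hG hcf (a₃ ≫ y')) (a₃ ≫ a₂ ≫ a ≫ x) (a₃ ≫ a₂ ≫ a ≫ y) ?_
    rintro d₄ a₄ ⟨τ, u₂, hu₂⟩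
    have ex : a₄ ≫ a₃ ≫ a₂ ≫ a ≫ x = (a₄ ≫ u₁) ≫ cf.inj σ ≫ π := by
      rw [hx', Category.assoc, ← reassoc_of% hu₁]
    have ey : a₄ ≫ a₃ ≫ a₂ ≫ a ≫ y = u₂ ≫ cf.inj τ ≫ π := by
      rw [hy', ← reassoc_of% hu₂]
    rw [ex, ey]
    suffices h : (a₄ ≫ u₁) ≫ cf.inj σ ≫ p = u₂ ≫ cf.inj τ ≫ p by
      rw [← cancel_mono j]
      simpa only [Category.assoc, hfac] using h
    have e₁ : ((a₄ ≫ u₁) ≫ cf.inj σ ≫ p) ≫ prod.fst = (u₂ ≫ cf.inj τ ≫ p) ≫ prod.fst := by
      have := congrArg (fun z => a₄ ≫ a₃ ≫ a₂ ≫ a ≫ z) hxy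
      simp only [← Category.assoc] at this ⊢
      simp only [Category.assoc] at this ⊢
      rw [reassoc_of% ex, reassoc_of% ey, reassoc_of% hfac] at this
      exact this
    simp only [hp, Category.assoc, prod.lift_fst] at e₁
    refine Limits.prod.hom_ext ?_ ?_
    · simp only [hp, Category.assoc, prod.lift_fst]
      exact e₁
    · simp only [hp, Category.assoc, prod.lift_snd]
      simpa only [Category.assoc] using
        compat _ σ.2.2 _ τ.2.2 (a₄ ≫ u₁) u₂ (by simpa only [Category.assoc] using e₁)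
  have := hS (j ≫ prod.fst) fun c t ht => ⟨cf.inj ⟨c, t, ht⟩ ≫ π, by
    rw [Category.assoc, reassoc_of% hfac, ← Category.assoc, hp, prod.lift_fst]⟩
  refine ⟨inv (j ≫ prod.fst) ≫ j ≫ prod.snd, fun c t ht => ?_, fun g hg => ?_⟩
  · have e : t = (cf.inj ⟨c, t, ht⟩ ≫ π) ≫ j ≫ prod.fst := by
      rw [Category.assoc, reassoc_of% hfac, ← Category.assoc, hp, prod.lift_fst]
    conv_lhs => rw [e]
    rw [Category.assoc, IsIso.hom_inv_id_assoc, Category.assoc, reassoc_of% hfac, ← Category.assoc, hp,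
      prod.lift_snd]
  · refine cov_hom_ext hS _ _ fun c t ht => ?_
    have e : t = (cf.inj ⟨c, t, ht⟩ ≫ π) ≫ j ≫ prod.fst := by
      rw [Category.assoc, reassoc_of% hfac, ← Category.assoc, hp, prod.lift_fst]
    rw [hg t ht]
    conv_rhs => rw [e]
    rw [Category.assoc, IsIso.hom_inv_id_assoc, Category.assoc, reassoc_of% hfac, ← Category.assoc, hp,
      prod.lift_snd]

end Groth.Agent.Giraud
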