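import Groth.Agent.Lib.Giraud.Sheaf
import Mathlib.CategoryTheory.Limits.Shapes.StrictInitial

/-!
# Which cofans of sheaves are coproducts
-/

set_option autoImplicit false

universe u

open CategoryTheory CategoryTheory.Limits Opposite ToposFin

namespace Groth.Agent.Giraud

open Groth.Agent.Topos

variable {C : Type u} [SmallCategory C] {J : GrothendieckTopology C}

theorem nonempty_isInitial_iff {X : Sheaf J (Type u)} :
    Nonempty (IsInitial X) ↔ ∀ (U : C) (_ : X.obj.obj (op U)), (⊥ : Sieve U) ∈ J U := by
  constructor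
  · rintro ⟨hX⟩ U s
    have e : ∐ (PEmpty.elim : PEmpty.{u + 1} → Sheaf J (Type u)) ≅ X :=
      { hom := Sigma.desc fun i => i.elim
        inv := hX.to _
        hom_inv_id := Limits.Sigma.hom_ext _ _ fun i => i.elim
        inv_hom_id := hX.hom_ext _ _ }
    have := (jepi_iff _).1 (jepi_sigma_ι (PEmpty.elim : PEmpty.{u + 1} → Sheaf J (Type u))) U
      (e.inv.hom.app (op U) s)
    refine J.superset_covering ?_ this
    rintro V g ⟨i, _⟩
    exact i.elim
  · intro h
    exact ⟨initialIsInitial.ofIso (Classical.choice (nonempty_iso_initial h)).symm⟩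

theorem isColimit_cofan_iff {ι : Type u} {F : ι → Sheaf J (Type u)} {X : Sheaf J (Type u)}
    (π : ∀ i, F i ⟶ X) :
    Nonempty (IsColimit (Cofan.mk X π)) ↔ Epi (Sigma.desc π) ∧ (∀ i, Mono (π i)) ∧
      ∀ i k, i ≠ k → ∀ (U : C) (s : (F i).obj.obj (op U)) (t : (F k).obj.obj (op U)),
        (π i).hom.app (op U) s = (π k).hom.app (op U) t → (⊥ : Sieve U) ∈ J U := by
  constructor
  · rintro ⟨hc⟩
    exact ⟨jepi_cofan _ hc, mono_cofan_inj _ hc, fun i k hik U s t e => cofan_disjoint _ hc hik s t e⟩
  · rintro ⟨hepi, hm, hdisj⟩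
    have inj : ∀ (U : Cᵒᵖ), Function.Injective ((Sigma.desc π).hom.app U) := by
      rintro ⟨U⟩ s t hst
      have hcov := (jepi_iff _).1 (jepi_sigma_ι F) U
      refine ((isSheaf_iff_isSheaf_of_type J _).1 (∐ F).property _
        (J.intersection_covering (hcov s) (hcov t))).isSeparatedFor.ext ?_
      rintro V g ⟨⟨i, a, ha⟩, ⟨k, b, hb⟩⟩
      have e : (π i).hom.app (op V) a = (π k).hom.app (op V) b := by
        have h1 := app_congr (Limits.Sigma.ι_desc π i) (op V) a
        have h2 := app_congr (Limits.Sigma.ι_desc π k) (op V) b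
        rw [comp_app_apply, ha, NatTrans.naturality_apply, hst, ← NatTrans.naturality_apply, ← hb,
          ← comp_app_apply] at h1
        exact h1.symm.trans h2
      rw [← ha, ← hb]
      by_cases hik : i = k
      · subst hik
        have := hm i
        rw [injective_app_of_mono (π i) (op V) e]
      · exact ((isSheaf_iff_isSheaf_of_type J _).1 (∐ F).property _
          (hdisj i k hik V a b e)).isSeparatedFor.ext fun _ _ h => h.elim
    have : Mono (Sigma.desc π) := by
      refine (sheafToPresheaf J (Type u)).mono_of_mono_map ?_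
      have : ∀ U, Mono ((Sigma.desc π).hom.app U) := fun U => (mono_iff_injective _).2 (inj U)
      change Mono (Sigma.desc π).hom
      exact NatTrans.mono_of_mono_app _
    have hiso := isIso_of_mono_of_epi (Sigma.desc π)
    exact ⟨(coproductIsCoproduct F).ofIsoColimit (Cofan.ext (@asIso _ _ _ _ (Sigma.desc π) hiso) fun i =>
      Limits.Sigma.ι_desc π i)⟩

/-- The criterion with fibre products. -/
theorem isColimit_cofan_iff_pullback {ι : Type u} {F : ι → Sheaf J (Type u)} {X : Sheaf J (Type u)}
    (π : ∀ i, F i ⟶ X) :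
    Nonempty (IsColimit (Cofan.mk X π)) ↔ Epi (Sigma.desc π) ∧ (∀ i, Mono (π i)) ∧
      ∀ i k, i ≠ k → Nonempty (IsInitial (pullback (π i) (π k))) := by
  rw [isColimit_cofan_iff]
  refine and_congr_right fun _ => and_congr_right fun _ => forall₃_congr fun i k _ => ?_
  rw [nonempty_isInitial_iff]
  constructor
  · exact fun h U z => h U ((pullback.fst (π i) (π k)).hom.app _ z)
      ((pullback.snd (π i) (π k)).hom.app _ z) (app_congr pullback.condition _ z)
  · intro h U s t e
    obtain ⟨z, -, -⟩ := exists_section_of_isPullback (IsPullback.of_hasPullback (π i) (π k)) s t e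
    exact h U z

/-- A family of presheaves becomes a coproduct after sheafification iff jointly epimorphic, with
diagonals inverted and pairwise products killed. -/
theorem isColimit_cofan_sheafify_iff {ι : Type u} {F : ι → (Cᵒᵖ ⥤ Type u)} {X : Cᵒᵖ ⥤ Type u}
    (π : ∀ i, F i ⟶ X) :
    Nonempty (IsColimit (Cofan.mk ((presheafToSheaf J (Type u)).obj X)
        (fun i => (presheafToSheaf J (Type u)).map (π i)))) ↔
      Epi (Sigma.desc fun i => (presheafToSheaf J (Type u)).map (π i)) ∧
      (∀ i, IsIso ((presheafToSheaf J (Type u)).map (pullback.diagonal (π i)))) ∧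
      ∀ i k, i ≠ k → Nonempty (IsInitial ((presheafToSheaf J (Type u)).obj (pullback (π i) (π k)))) := by
  rw [isColimit_cofan_iff_pullback]
  refine and_congr_right fun _ => and_congr (forall_congr' fun i => ?_)
    (forall₃_congr fun i k _ => ?_)
  · rw [← pullback.isIso_diagonal_iff]
    have : (presheafToSheaf J (Type u)).map (pullback.diagonal (π i)) ≫
        (PreservesPullback.iso (presheafToSheaf J (Type u)) (π i) (π i)).hom =
        pullback.diagonal ((presheafToSheaf J (Type u)).map (π i)) := by
      apply pullback.hom_ext <;> simp [← Functor.map_comp]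
    rw [← this, isIso_comp_right_iff]
  · exact ⟨fun ⟨h⟩ => ⟨h.ofIso (PreservesPullback.iso _ (π i) (π k)).symm⟩,
      fun ⟨h⟩ => ⟨h.ofIso (PreservesPullback.iso _ (π i) (π k))⟩⟩

end Groth.Agent.Giraud
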