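import Groth.Agent.Lib.Giraud.Basic
import Mathlib.CategoryTheory.Sites.Sheaf
import Mathlib.CategoryTheory.Types.Basic

/-!
# Giraud's theorem: the comparison with sheaves on the generators
-/

set_option autoImplicit false

universe w v u

open CategoryTheory CategoryTheory.Limits Opposite

namespace Groth.Agent.Giraud

variable {E : Type v} [Category.{u} E] [HasFiniteLimits E] {C : Type u} [SmallCategory C]
  {G : C ⥤ E} [G.Full] [G.Faithful] (hG : IsGiraud G)

/-- The topology on generators. -/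
def topology : GrothendieckTopology C where
  sieves c := {S | Cov G (X := G.obj c) fun d t => ∃ a : d ⟶ c, S a ∧ G.map a = t}
  top_mem' c := cov_mono (fun d t _ => ⟨G.preimage t, trivial, G.map_preimage t⟩) (cov_top hG _)
  pullback_stable' c d S f hS := by
    refine cov_mono ?_ (cov_pullback hG hS (G.map f))
    rintro e t ⟨c', s, h, ⟨b, hb, rfl⟩, heq⟩
    refine ⟨G.preimage t, ?_, G.map_preimage t⟩
    change S (G.preimage t ≫ f)
    rw [show G.preimage t ≫ f = G.preimage h ≫ b from G.map_injective (by simpa using heq)]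
    exact S.downward_closed hb _
  transitive' c S hS R hR := by
    refine cov_bind hG hS ?_
    rintro d s ⟨b, hb, rfl⟩
    refine cov_mono ?_ (hR hb)
    rintro e t ⟨a, ha, rfl⟩
    exact ⟨a ≫ b, ha, G.map_comp a b⟩

theorem mem_topology {c : C} (S : Sieve c) :
    S ∈ topology hG c ↔ Cov G (X := G.obj c) fun d t => ∃ a : d ⟶ c, S a ∧ G.map a = t := Iff.rfl

theorem yoneda_isSheaf (A : E) :
    Presieve.IsSheaf (topology hG) (G.op ⋙ yoneda.obj A) := by
  intro c S hS x hx
  let φ : ∀ ⦃d : C⦄ (t : G.obj d ⟶ G.obj c), (∃ a : d ⟶ c, S a ∧ G.map a = t) → (G.obj d ⟶ A) :=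
    fun d t ht => x ht.choose ht.choose_spec.1
  have hφ : ∀ ⦃d : C⦄ (a : d ⟶ c) (ha : S a) (h : ∃ b : d ⟶ c, S b ∧ G.map b = G.map a),
      φ (G.map a) h = x a ha := by
    intro d a ha h
    have : h.choose = a := G.map_injective h.choose_spec.2
    simp only [φ]
    congr 1
  obtain ⟨g, hg, huniq⟩ := exists_glue hG hS φ (by
    rintro d₁ d₂ e _ ⟨a₁, h₁, rfl⟩ _ ⟨a₂, h₂, rfl⟩ p q hpq
    rw [hφ a₁ h₁, hφ a₂ h₂]
    have := hx (G.preimage p) (G.preimage q) h₁ h₂ (G.map_injective (by simpa using hpq))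
    change G.map (G.preimage p) ≫ x a₁ h₁ = G.map (G.preimage q) ≫ x a₂ h₂ at this
    simpa using this)
  refine ⟨g, fun d a ha => ?_, fun g' hg' => huniq g' ?_⟩
  · exact (hg _ ⟨a, ha, rfl⟩).trans (hφ a ha _)
  · rintro d _ ⟨a, ha, rfl⟩
    exact (hg' a ha).trans (hφ a ha _).symm

/-- The comparison functor. -/
def comparison : E ⥤ Sheaf (topology hG) (Type u) where
  obj A := ⟨G.op ⋙ yoneda.obj A, (isSheaf_iff_isSheaf_of_type _ _).2 (yoneda_isSheaf hG A)⟩
  map f := ⟨Functor.whiskerLeft G.op (yoneda.map f)⟩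

theorem comparison_map_apply {A B : E} (f : A ⟶ B) {c : C} (t : G.obj c ⟶ A) :
    ((comparison hG).map f).hom.app (op c) t = t ≫ f := rfl

theorem comparison_faithful : (comparison hG).Faithful :=
  ⟨fun {A B} f g h => hom_ext_gens hG f g fun c t => by
    rw [← comparison_map_apply hG f t, ← comparison_map_apply hG g t, h]⟩

theorem comparison_full : (comparison hG).Full := by
  refine ⟨fun {A B} η => ?_⟩
  obtain ⟨g, hg, -⟩ := exists_glue hG (cov_top hG A) (fun c t _ => η.hom.app (op c) t) (by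
    rintro c c' d t _ t' _ a b hab
    have nat : ∀ {d c : C} (a : G.obj d ⟶ G.obj c) (t : G.obj c ⟶ A),
        η.hom.app (op d) (a ≫ t) = a ≫ η.hom.app (op c) t := fun {d c} a t => by
      have e := ConcreteCategory.congr_hom (η.hom.naturality (G.preimage a).op) t
      change η.hom.app (op d) (G.map (G.preimage a) ≫ t) = G.map (G.preimage a) ≫ η.hom.app (op c) t at e
      simpa using e
    rw [← nat a t, ← nat b t', hab])
  refine ⟨g, ?_⟩
  ext ⟨c⟩ t
  exact hg t trivial

section EssSurj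

variable (F : Sheaf (topology hG) (Type u))

theorem sheafFor {c : C} {S : Sieve c} (hS : S ∈ topology hG c) :
    Presieve.IsSheafFor F.obj (S : Presieve c) :=
  (isSheaf_iff_isSheaf_of_type _ _).1 F.property S hS

theorem map_map {c d e : C} (f : e ⟶ d) (g : d ⟶ c) (s : F.obj.obj (op c)) :
    F.obj.map f.op (F.obj.map g.op s) = F.obj.map (f ≫ g).op s :=
  (FunctorToTypes.map_comp_apply F.obj g.op f.op s).symm

/-- Sections that agree on a covering agree. -/
theorem sections_ext {c : C} {T : ∀ ⦃d : C⦄, (G.obj d ⟶ G.obj c) → Prop} (hT : Cov G T)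
    {s s' : F.obj.obj (op c)}
    (h : ∀ ⦃d : C⦄ (a : d ⟶ c), T (G.map a) → F.obj.map a.op s = F.obj.map a.op s') : s = s' := by
  let S : Sieve c :=
    { arrows := fun d a => F.obj.map a.op s = F.obj.map a.op s'
      downward_closed := fun {d e} {a} ha b => by rw [← map_map, ← map_map, ha] }
  have hS : S ∈ topology hG c :=
    cov_mono (fun d t ht => ⟨G.preimage t, h _ (by rwa [G.map_preimage]), G.map_preimage t⟩) hT
  exact (sheafFor hG F hS).isSeparatedFor.ext fun _ _ ha => ha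

theorem comparison_essSurj_obj : ∃ B : E, Nonempty ((comparison hG).obj B ≅ F) := by
  classical
  obtain ⟨cf, hcf, hdis, -⟩ := hG.coprod (Σ c : C, F.obj.obj (op c)) (fun σ => G.obj σ.1)
  let A := cf.pt
  -- two presentations of a point of the coproduct give the same section
  have wd : ∀ {d : C} {σ τ : Σ c : C, F.obj.obj (op c)} (f : d ⟶ σ.1) (g : d ⟶ τ.1),
      G.map f ≫ cf.inj σ = G.map g ≫ cf.inj τ → F.obj.map f.op σ.2 = F.obj.map g.op τ.2 := by
    intro d σ τ f g e
    by_cases h : σ = τ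
    · subst h
      have := CoproductDisjoint.mono_inj hcf σ
      rw [cancel_mono] at e
      rw [G.map_injective e]
    · exact sections_ext hG F (cov_of_disjoint hG hcf h _ _ e) fun _ _ hf => hf.elim
  -- the section attached to a point
  have hp : ∀ {c : C} (x : G.obj c ⟶ A), ∃ s : F.obj.obj (op c),
      ∀ {d : C} (a : d ⟶ c) {σ : Σ c : C, F.obj.obj (op c)} (f : d ⟶ σ.1),
        G.map a ≫ x = G.map f ≫ cf.inj σ → F.obj.map a.op s = F.obj.map f.op σ.2 := by
    intro c x
    let S : Sieve c :=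
      { arrows := fun d a => ∃ (σ : Σ c : C, F.obj.obj (op c)) (f : d ⟶ σ.1),
          G.map a ≫ x = G.map f ≫ cf.inj σ
        downward_closed := fun {d e} {a} ⟨σ, f, hf⟩ b => ⟨σ, b ≫ f, by
          rw [G.map_comp, G.map_comp, Category.assoc, hf, Category.assoc]⟩ }
    have hS : S ∈ topology hG c := cov_mono (fun d t ⟨σ, y, hy⟩ =>
      ⟨G.preimage t, ⟨σ, G.preimage y, by simpa using hy⟩, G.map_preimage t⟩) (cov_cofan hG hcf x)
    let φ : Presieve.FamilyOfElements F.obj (S : Presieve c) :=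
      fun d a ha => F.obj.map ha.choose_spec.choose.op ha.choose.2
    have hφ : φ.Compatible := by
      intro d₁ d₂ e g₁ g₂ a₁ a₂ h₁ h₂ he
      refine (map_map hG F _ _ _).trans (Eq.trans ?_ (map_map hG F _ _ _).symm)
      refine wd _ _ ?_
      rw [G.map_comp, G.map_comp, Category.assoc, Category.assoc, ← h₁.choose_spec.choose_spec,
        ← h₂.choose_spec.choose_spec, ← Category.assoc, ← Category.assoc, ← G.map_comp, ← G.map_comp, he]
    refine ⟨(sheafFor hG F hS).amalgamate φ hφ, fun {d} a {σ} f hf => ?_⟩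
    have ha : S a := ⟨σ, f, hf⟩
    rw [(sheafFor hG F hS).valid_glue hφ a ha]
    exact wd _ _ (ha.choose_spec.choose_spec.symm.trans hf)
  choose p hp using @hp
  have p_nat : ∀ {d c : C} (b : d ⟶ c) (x : G.obj c ⟶ A),
      p (G.map b ≫ x) = F.obj.map b.op (p x) := fun {d c} b x => by
    refine sections_ext hG F (cov_cofan hG hcf (G.map b ≫ x)) fun e a ⟨σ, y, hy⟩ => ?_
    obtain ⟨f, rfl⟩ := G.map_surjective y
    rw [map_map, hp _ a f hy, hp x (a ≫ b) f (by rw [G.map_comp, Category.assoc, hy])]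
  have p_inj : ∀ σ, p (cf.inj σ) = σ.2 := fun σ => by
    simpa using hp (cf.inj σ) (𝟙 σ.1) (σ := σ) (𝟙 σ.1) rfl
  -- the relation as a subobject of `A ⨯ A`
  obtain ⟨cr, hcr, -, -⟩ := hG.coprod
    (Σ c : C, {z : G.obj c ⟶ A ⨯ A // p (z ≫ prod.fst) = p (z ≫ prod.snd)}) (fun σ => G.obj σ.1)
  let q : cr.pt ⟶ A ⨯ A := Cofan.IsColimit.desc hcr fun σ => σ.2.1
  have hq : ∀ σ, cr.inj σ ≫ q = σ.2.1 := fun σ => Cofan.IsColimit.fac hcr _ σ
  obtain ⟨R, ρ, j, hρj, hj, hu⟩ := exists_image hG q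
  have hR : ∀ {c : C} (t : G.obj c ⟶ A ⨯ A),
      (∃ r, r ≫ j = t) ↔ p (t ≫ prod.fst) = p (t ≫ prod.snd) := by
    intro c t
    constructor
    · rintro ⟨r, rfl⟩
      refine sections_ext hG F (cov_effectiveEpi hG ρ hu r) fun d a ⟨x, hx⟩ => ?_
      rw [← p_nat, ← p_nat]
      refine sections_ext hG F (cov_cofan hG hcr x) fun e b ⟨σ, y, hy⟩ => ?_
      obtain ⟨f, rfl⟩ := G.map_surjective y
      have e₁ : G.map b ≫ G.map a ≫ r ≫ j = G.map f ≫ σ.2.1 := by
        rw [reassoc_of% hx, hρj, reassoc_of% hy, hq]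
      rw [← p_nat, ← p_nat]
      simp only [Category.assoc, reassoc_of% e₁, p_nat, σ.2.2]
    · intro h
      exact ⟨cr.inj ⟨c, t, h⟩ ≫ ρ, by rw [Category.assoc, hρj]; exact hq _⟩
  have hRel : ∀ {T : E} (a b : T ⟶ A), (∃ f : T ⟶ R, f ≫ (j ≫ prod.fst) = a ∧ f ≫ (j ≫ prod.snd) = b) ↔
      ∀ (c : C) (t : G.obj c ⟶ T), p (t ≫ a) = p (t ≫ b) := by
    intro T a b
    constructor
    · rintro ⟨f, rfl, rfl⟩ c t
      simpa using (hR (t ≫ f ≫ j)).1 ⟨t ≫ f, by simp⟩
    · intro h
      obtain ⟨f, hf⟩ := lift_of_gens hG j (prod.lift a b) fun c t =>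
        (hR _).2 (by rw [Category.assoc, Category.assoc, prod.lift_fst, prod.lift_snd]; exact h c t)
      exact ⟨f, by rw [← Category.assoc, hf, prod.lift_fst], by rw [← Category.assoc, hf, prod.lift_snd]⟩
  have hER : SGA4.IsEquivRel (j ≫ prod.fst) (j ≫ prod.snd) := fun T => by
    refine ⟨fun f g h => ?_, ⟨fun a => ?_, fun {a b} h => ?_, fun {a b c} h h' => ?_⟩⟩
    · rw [← cancel_mono j]
      exact Limits.prod.hom_ext (by simpa using congrArg Prod.fst h) (by simpa using congrArg Prod.snd h)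
    · exact (hRel a a).2 fun _ _ => rfl
    · exact (hRel b a).2 fun c t => ((hRel a b).1 h c t).symm
    · exact (hRel a c).2 fun d t => ((hRel a b).1 h d t).trans ((hRel b c).1 h' d t)
  obtain ⟨B, π, hpb, -, hπ⟩ := hG.equivRel _ _ _ _ hER
  have key : ∀ {c : C} (x x' : G.obj c ⟶ A), x ≫ π = x' ≫ π ↔ p x = p x' := by
    intro c x x'
    constructor
    · intro h
      have := (hRel x x').1 ⟨hpb.lift x x' h, hpb.lift_fst _ _ _, hpb.lift_snd _ _ _⟩ c (𝟙 _)
      simpa using this
    · intro h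
      obtain ⟨f, hf₁, hf₂⟩ := (hRel x x').2 fun d t => by
        obtain ⟨a, rfl⟩ := G.map_surjective t
        rw [p_nat, p_nat, h]
      rw [← hf₁, ← hf₂, Category.assoc f, Category.assoc f, hpb.w]
  let θ : F.obj ⟶ G.op ⋙ yoneda.obj B :=
    { app := fun c => TypeCat.ofHom fun s => cf.inj ⟨c.unop, s⟩ ≫ π
      naturality := fun c d f => by
        ext s
        change cf.inj ⟨d.unop, F.obj.map f s⟩ ≫ π = G.map f.unop ≫ cf.inj ⟨c.unop, s⟩ ≫ π
        rw [← Category.assoc (G.map f.unop), key, p_inj, p_nat, p_inj]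
        rfl }
  have hθ : ∀ c : C, Function.Bijective fun s : F.obj.obj (op c) => cf.inj ⟨c, s⟩ ≫ π := by
    intro c
    have inj : ∀ {d : C}, Function.Injective fun s : F.obj.obj (op d) => cf.inj ⟨d, s⟩ ≫ π :=
      fun {d} s s' h => by simpa only [p_inj] using (key _ _).1 h
    refine ⟨inj, fun b => ?_⟩
    have nat : ∀ {d e : C} (a : e ⟶ d) (s : F.obj.obj (op d)),
        cf.inj ⟨e, F.obj.map a.op s⟩ ≫ π = G.map a ≫ cf.inj ⟨d, s⟩ ≫ π := fun a s => by
      rw [← Category.assoc (G.map a), key, p_inj, p_nat, p_inj]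
    let S : Sieve c :=
      { arrows := fun d a => ∃ s : F.obj.obj (op d), cf.inj ⟨d, s⟩ ≫ π = G.map a ≫ b
        downward_closed := fun {d e} {a} ⟨s, hs⟩ h => ⟨F.obj.map h.op s, by
          rw [nat, hs, G.map_comp, Category.assoc]⟩ }
    have hS : S ∈ topology hG c := by
      refine cov_mono (fun d t ⟨x, hx⟩ => ⟨G.preimage t, ⟨p x, ?_⟩, G.map_preimage t⟩)
        (cov_effectiveEpi hG π hπ b)
      rw [G.map_preimage, hx, key, p_inj]
    let φ : Presieve.FamilyOfElements F.obj (S : Presieve c) := fun d a ha => ha.choose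
    have hφ : φ.Compatible := by
      intro d₁ d₂ e g₁ g₂ a₁ a₂ h₁ h₂ he
      refine inj ?_
      dsimp only
      rw [nat, nat, h₁.choose_spec, h₂.choose_spec, ← Category.assoc, ← Category.assoc, ← G.map_comp,
        ← G.map_comp, he]
    refine ⟨(sheafFor hG F hS).amalgamate φ hφ, ?_⟩
    refine cov_hom_ext hS _ _ ?_
    rintro d _ ⟨a, ha, rfl⟩
    rw [← nat, (sheafFor hG F hS).valid_glue hφ a ha]
    exact ha.choose_spec
  have : ∀ c, IsIso (θ.app c) := fun c => (isIso_iff_bijective _).2 (hθ c.unop)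
  have : IsIso θ := NatIso.isIso_of_isIso_app θ
  exact ⟨B, ⟨((fullyFaithfulSheafToPresheaf (topology hG) (Type u)).preimageIso
    (@asIso _ _ _ _ θ this) : F ≅ (comparison hG).obj B).symm⟩⟩

end EssSurj

include hG in
/-- Giraud's theorem. -/
theorem isTopos : SGA4.IsTopos.{v, u} E := by
  have := comparison_faithful hG
  have := comparison_full hG
  have : (comparison hG).EssSurj := ⟨fun F => comparison_essSurj_obj hG F⟩
  have : (comparison hG).IsEquivalence := {}
  exact ⟨C, inferInstance, topology hG, ⟨(comparison hG).asEquivalence⟩⟩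

end Groth.Agent.Giraud
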