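import Groth.Agent.Lib.Giraud.OfFamily
import Mathlib.CategoryTheory.Adjunction.Evaluation
import Mathlib.CategoryTheory.Limits.FunctorCategory.Finite
import Mathlib.CategoryTheory.Limits.FunctorCategory.EpiMono

/-!
# Functor categories with values in a sheaf topos
-/

set_option autoImplicit false

universe u

open CategoryTheory CategoryTheory.Limits Opposite

namespace Groth.Agent.Giraud

variable {C : Type u} [SmallCategory C] (J : GrothendieckTopology C) (D : Type u) [SmallCategory D]

theorem isExactFamily_eval :
    IsExactFamily (fun d : D => (evaluation D (Sheaf J (Type u))).obj d) where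
  finLim _ := inferInstance
  coprod _ _ := inferInstance
  coeq _ := inferInstance
  cons f h := by
    have : ∀ d, IsIso (f.app d) := h
    exact NatIso.isIso_of_isIso_app f

theorem isTopos_functorCat : SGA4.IsTopos.{u + 1, u} (D ⥤ Sheaf J (Type u)) := by
  refine isTopos_of_family (isExactFamily_eval J D)
    (fun p : D × C => (evaluationLeftAdjoint (Sheaf J (Type u)) p.1).obj (ToposFin.eps J p.2))
    fun {B X} m _ h => ?_
  have : ∀ d, IsIso (m.app d) := fun d => by
    have : Mono (m.app d) := inferInstanceAs (Mono (((evaluation D _).obj d).map m))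
    have : Epi (m.app d) := (Groth.Agent.Topos.epi_iff_lift _).2 fun U s => by
      let adj := evaluationAdjunctionRight (Sheaf J (Type u)) d
      obtain ⟨g, hg⟩ := h (d, U) ((adj.homEquiv _ _).symm (Groth.Agent.Topos.epsDesc J s))
      refine J.superset_covering ?_ (J.top_mem U)
      intro V a _
      refine ⟨PUnit.unit, (B.obj d).obj.map a.op
        ((adj.homEquiv _ _ g).hom.app (op U) (Groth.Agent.Topos.epsSec J (𝟙 U))), ?_⟩
      have e : adj.homEquiv _ _ g ≫ m.app d = Groth.Agent.Topos.epsDesc J s := by
        rw [← Equiv.apply_symm_apply (adj.homEquiv _ _) (Groth.Agent.Topos.epsDesc J s), ← hg,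
          Adjunction.homEquiv_naturality_right]
        rfl
      rw [NatTrans.naturality_apply]
      change (X.obj d).obj.map a.op ((adj.homEquiv _ _ g ≫ m.app d).hom.app _ _) = _
      rw [e, Groth.Agent.Topos.epsDesc_epsSec]
    exact isIso_of_mono_of_epi _
  exact NatIso.isIso_of_isIso_app m

end Groth.Agent.Giraud
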