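import Groth.Agent.Lib.Giraud.OfFamily
import Mathlib.CategoryTheory.Limits.Comma
import Mathlib.CategoryTheory.Presentable.Presheaf
import Mathlib.CategoryTheory.Presentable.Type

/-!
# The category glued along a left exact accessible functor of sheaf topoi
-/

set_option autoImplicit false

universe u

open CategoryTheory CategoryTheory.Limits Opposite

namespace Groth.Agent.Giraud

open Groth.Agent.Topos

/-- A small set of sheaves from which every value of an accessible functor is locally reached. -/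
theorem exists_small_reaching {C D : Type u} [SmallCategory C] [SmallCategory D]
    (J : GrothendieckTopology C) (K : GrothendieckTopology D)
    (ρ : Sheaf J (Type u) ⥤ Sheaf K (Type u)) [ρ.IsAccessible.{u}] :
    ∃ (S : Type u) (Z : S → Sheaf J (Type u)), ∀ (X : Sheaf J (Type u)) (d : D)
      (s : (ρ.obj X).obj.obj (op d)), ∃ R ∈ K d, ∀ ⦃V : D⦄ (a : V ⟶ d), R.arrows a →
        ∃ (i : S) (h : Z i ⟶ X) (t : (ρ.obj (Z i)).obj.obj (op V)),
          (ρ.map h).hom.app (op V) t = (ρ.obj X).obj.map a.op s := by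
  obtain ⟨κ₁, hκ₁, hρ⟩ := Functor.IsAccessible.exists_cardinal (F := ρ)
  obtain ⟨κ₂, hκ₂, hP⟩ := IsLocallyPresentable.exists_cardinal.{u} (Cᵒᵖ ⥤ Type u)
  obtain ⟨κ, hκ, h₁, h₂⟩ : ∃ (κ : Cardinal.{u}) (_ : Fact κ.IsRegular), κ₁ ≤ κ ∧ κ₂ ≤ κ := by
    rcases le_total κ₁ κ₂ with h | h
    · exact ⟨κ₂, hκ₂, h, le_rfl⟩
    · exact ⟨κ₁, hκ₁, le_rfl, h⟩
  have := ρ.isCardinalAccessible_of_le h₁
  have := IsCardinalLocallyPresentable.of_le (Cᵒᵖ ⥤ Type u) h₂
  obtain ⟨P, _, hPgen⟩ := HasCardinalFilteredGenerator.exists_generator (Cᵒᵖ ⥤ Type u) κ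
  obtain ⟨Q, hQ, -, hPQ⟩ := ObjectProperty.EssentiallySmall.exists_small_le.{u} P
  have : Small.{u} (Subtype Q) := hQ
  refine ⟨Shrink.{u} (Subtype Q),
    fun i => (presheafToSheaf J (Type u)).obj ((equivShrink (Subtype Q)).symm i).1, fun X d s => ?_⟩
  obtain ⟨I, hI, hIf, ⟨p⟩⟩ := hPgen.exists_colimitsOfShape X.obj
  let L := presheafToSheaf J (Type u)
  let ε := (sheafificationAdjunction J (Type u)).counit.app X
  have : IsIso ε := inferInstance
  have := ρ.preservesColimitsOfShape_of_isCardinalAccessible κ I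
  have hc := isColimitOfPreserves (L ⋙ ρ) p.isColimit
  let legs : ∀ j : I, ρ.obj (L.obj (p.diag.obj j)) ⟶ ρ.obj X :=
    fun j => ρ.map (L.map (p.ι.app j) ≫ ε)
  have hepi : Epi (Sigma.desc legs) := ⟨fun {W} a b hab => by
    rw [← cancel_epi (ρ.map ε)]
    refine hc.hom_ext fun j => ?_
    have := Sigma.ι (fun j => ρ.obj (L.obj (p.diag.obj j))) j ≫= hab
    rw [Limits.Sigma.ι_desc_assoc, Limits.Sigma.ι_desc_assoc] at this
    simpa [legs, L] using this⟩
  refine ⟨liftSieve legs s, (jepi_iff _).1 hepi d s, ?_⟩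
  rintro V a ⟨j, t, ht⟩
  obtain ⟨Y, hY, ⟨e⟩⟩ := hPQ _ (p.prop_diag_obj j)
  refine ⟨equivShrink (Subtype Q) ⟨Y, hY⟩, ?_⟩
  have hobj : ((equivShrink (Subtype Q)).symm (equivShrink (Subtype Q) ⟨Y, hY⟩)).1 = Y := by simp
  let e := e ≪≫ eqToIso hobj.symm
  refine ⟨L.map e.inv ≫ L.map (p.ι.app j) ≫ ε, (ρ.map (L.map e.hom)).hom.app (op V) t, ?_⟩
  rw [← comp_app_apply, ← Functor.map_comp, ← L.map_comp_assoc, e.hom_inv_id, L.map_id,
    Category.id_comp]
  exact ht

section Comma

variable {A B T : Type*} [Category A] [Category B] [Category T] {L : A ⥤ T} {R : B ⥤ T}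
  {I : Type*} [Category I]

theorem preservesLimitsOfShape_commaFst [HasLimitsOfShape I A] [HasLimitsOfShape I B]
    [PreservesLimitsOfShape I R] : PreservesLimitsOfShape I (Comma.fst L R) where
  preservesLimit :=
    preservesLimit_of_preserves_limit_cone
      (Comma.coneOfPreservesIsLimit _ (limit.isLimit _) (limit.isLimit _)) (limit.isLimit _)

theorem preservesLimitsOfShape_commaSnd [HasLimitsOfShape I A] [HasLimitsOfShape I B]
    [PreservesLimitsOfShape I R] : PreservesLimitsOfShape I (Comma.snd L R) where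
  preservesLimit :=
    preservesLimit_of_preserves_limit_cone
      (Comma.coneOfPreservesIsLimit _ (limit.isLimit _) (limit.isLimit _)) (limit.isLimit _)

end Comma

variable {C D : Type u} [SmallCategory C] [SmallCategory D] (J : GrothendieckTopology C)
  (K : GrothendieckTopology D) (ρ : Sheaf J (Type u) ⥤ Sheaf K (Type u))

/-- The sites underlying the two projections. -/
def gluedCarrier (C D : Type u) : Bool → Type u
  | true => D
  | false => C

instance gluedCarrierCat : ∀ k, SmallCategory (gluedCarrier C D k)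
  | true => inferInstanceAs (SmallCategory D)
  | false => inferInstanceAs (SmallCategory C)

/-- The topologies underlying the two projections. -/
def gluedTop : ∀ k, GrothendieckTopology (gluedCarrier C D k)
  | true => K
  | false => J

/-- The two projections of the glued category. -/
def gluedProj : ∀ k, Comma (𝟭 (Sheaf K (Type u))) ρ ⥤ Sheaf (gluedTop J K k) (Type u)
  | true => Comma.fst _ _
  | false => Comma.snd _ _

variable [PreservesFiniteLimits ρ]

theorem isExactFamily_glued : IsExactFamily (gluedProj J K ρ) where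
  finLim
    | true => ⟨fun _ _ _ => preservesLimitsOfShape_commaFst (L := 𝟭 _) (R := ρ)⟩
    | false => ⟨fun _ _ _ => preservesLimitsOfShape_commaSnd (L := 𝟭 _) (R := ρ)⟩
  coprod
    | true, _ => inferInstanceAs (PreservesColimitsOfShape _ (Comma.fst (𝟭 _) ρ))
    | false, _ => inferInstanceAs (PreservesColimitsOfShape _ (Comma.snd (𝟭 _) ρ))
  coeq
    | true => inferInstanceAs (PreservesColimitsOfShape _ (Comma.fst (𝟭 _) ρ))
    | false => inferInstanceAs (PreservesColimitsOfShape _ (Comma.snd (𝟭 _) ρ))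
  cons f h := by
    have h₁ : IsIso f.left := h true
    have h₂ : IsIso f.right := h false
    exact (Comma.isoMk (asIso f.left) (asIso f.right) f.w).isIso_hom

theorem isTopos_glued [ρ.IsAccessible.{u}] :
    SGA4.IsTopos.{u + 1, u} (Comma (𝟭 (Sheaf K (Type u))) ρ) := by
  obtain ⟨S, Z, hZ⟩ := exists_small_reaching J K ρ
  let F : (C ⊕ Σ p : D × S, ToposFin.eps K p.1 ⟶ ρ.obj (Z p.2)) → Comma (𝟭 (Sheaf K (Type u))) ρ :=
    fun i => match i with
      | .inl c => { left := ⊥_ _, right := ToposFin.eps J c, hom := initial.to _ }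
      | .inr p => { left := ToposFin.eps K p.1.1, right := Z p.1.2, hom := p.2 }
  refine isTopos_of_family (isExactFamily_glued J K ρ) F fun {B X} m _ h => ?_
  have := (isExactFamily_glued J K ρ).finLim true
  have := (isExactFamily_glued J K ρ).finLim false
  have : Mono m.left := inferInstanceAs (Mono ((gluedProj J K ρ true).map m))
  have : Mono m.right := inferInstanceAs (Mono ((gluedProj J K ρ false).map m))
  have : Epi m.right := (epi_iff_lift _).2 fun U s => by
    obtain ⟨g, hg⟩ := h (.inl U)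
      { left := initial.to _, right := epsDesc J s, w := initialIsInitial.hom_ext _ _ }
    refine J.superset_covering ?_ (J.top_mem U)
    intro V a _
    refine ⟨PUnit.unit, B.right.obj.map a.op (g.right.hom.app (op U) (epsSec J (𝟙 U))), ?_⟩
    have e : g.right ≫ m.right = epsDesc J s := congrArg CommaMorphism.right hg
    rw [NatTrans.naturality_apply, ← comp_app_apply, e, epsDesc_epsSec]
  have : Epi m.left := (epi_iff_lift _).2 fun U y => by
    obtain ⟨R, hR, hs⟩ := hZ X.right U (X.hom.hom.app (op U) y)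
    refine K.superset_covering ?_ hR
    intro V a ha
    obtain ⟨i, l, t, ht⟩ := hs a ha
    have w : (𝟭 (Sheaf K (Type u))).map (epsDesc K (X.left.obj.map a.op y)) ≫ X.hom =
        epsDesc K t ≫ ρ.map l := eps_hom_ext K _ _ (by
      simp only [Functor.id_map, comp_app_apply, epsDesc_epsSec]
      rw [ht]
      exact NatTrans.naturality_apply _ _ _)
    obtain ⟨g, hg⟩ := h (.inr ⟨(V, i), epsDesc K t⟩)
      { left := epsDesc K (X.left.obj.map a.op y), right := l, w := w }
    refine ⟨PUnit.unit, g.left.hom.app (op V) (epsSec K (𝟙 V)), ?_⟩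
    have e : g.left ≫ m.left = epsDesc K (X.left.obj.map a.op y) := congrArg CommaMorphism.left hg
    rw [← comp_app_apply, e, epsDesc_epsSec]
  have h₁ := isIso_of_mono_of_epi m.left
  have h₂ := isIso_of_mono_of_epi m.right
  exact (Comma.isoMk (asIso m.left) (asIso m.right) m.w).isIso_hom

end Groth.Agent.Giraud
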