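import Groth.Agent.Lib.Giraud.Sheaf
import Mathlib.CategoryTheory.Limits.Preserves.Shapes.BinaryProducts
import Mathlib.CategoryTheory.Limits.Preserves.Shapes.Pullbacks
import Mathlib.CategoryTheory.EffectiveEpi.Comp

/-!
# Giraud's axioms are detected by jointly conservative functors to sheaf topoi
-/

set_option autoImplicit false

universe w v u

open CategoryTheory CategoryTheory.Limits Opposite

namespace Groth.Agent.Giraud

variable {E : Type v} [Category.{u} E] {κ : Type w} {Cs : κ → Type u} [∀ k, SmallCategory (Cs k)]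
  {Js : ∀ k, GrothendieckTopology (Cs k)} (P : ∀ k, E ⥤ Sheaf (Js k) (Type u))

/-- A jointly conservative family of exact cocontinuous functors to sheaf topoi. -/
structure IsExactFamily [HasFiniteLimits E] : Prop where
  finLim : ∀ k, PreservesFiniteLimits (P k)
  coprod : ∀ k (ι : Type u), PreservesColimitsOfShape (Discrete ι) (P k)
  coeq : ∀ k, PreservesColimitsOfShape WalkingParallelPair (P k)
  cons : ∀ {X Y : E} (f : X ⟶ Y), (∀ k, IsIso ((P k).map f)) → IsIso f

variable {P} [HasFiniteLimits E] (hP : IsExactFamily P)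

include hP

theorem eq_of_map_eq {X Y : E} (a b : X ⟶ Y) (h : ∀ k, (P k).map a = (P k).map b) : a = b := by
  have : IsIso (equalizer.ι a b) := hP.cons _ fun k => by
    have := hP.finLim k
    have hl := isLimitForkMapOfIsLimit (P k) (equalizer.condition a b) (equalizerIsEqualizer a b)
    have hs : Fork.IsLimit.lift hl (𝟙 _) (by rw [h k]) ≫ (P k).map (equalizer.ι a b) = 𝟙 _ :=
      Fork.IsLimit.lift_ι' hl _ _
    have hm : Mono ((P k).map (equalizer.ι a b)) := inferInstance
    exact ⟨Fork.IsLimit.lift hl (𝟙 _) (by rw [h k]),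
      by rw [← cancel_mono ((P k).map (equalizer.ι a b)), Category.assoc, hs, Category.comp_id, Category.id_comp], hs⟩
  rw [← cancel_epi (equalizer.ι a b), equalizer.condition]

theorem mono_of_map_mono {X Y : E} (f : X ⟶ Y) (h : ∀ k, Mono ((P k).map f)) : Mono f := by
  have e : pullback.fst f f = pullback.snd f f := eq_of_map_eq hP _ _ fun k => by
    have := h k
    rw [← cancel_mono ((P k).map f), ← Functor.map_comp, ← Functor.map_comp, pullback.condition]
  exact ⟨fun a b hab => by
    rw [← pullback.lift_fst a b hab, e, pullback.lift_snd]⟩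

theorem isEquivRel_map {R A : E} (p₁ p₂ : R ⟶ A) (hR : SGA4.IsEquivRel p₁ p₂) (k : κ) :
    SGA4.IsEquivRel ((P k).map p₁) ((P k).map p₂) := by
  have := hP.finLim k
  let j : R ⟶ A ⨯ A := prod.lift p₁ p₂
  have : Mono j := ⟨fun {W} a b hab => (hR W).1 (Prod.ext
    (by simpa only [j, Category.assoc, prod.lift_fst] using hab =≫ prod.fst) (by simpa only [j, Category.assoc, prod.lift_snd] using hab =≫ prod.snd))⟩
  have hPj : Mono ((P k).map j) := inferInstance
  obtain ⟨r, hr₁, hr₂⟩ : ∃ r : A ⟶ R, r ≫ p₁ = 𝟙 A ∧ r ≫ p₂ = 𝟙 A := (hR A).2.refl (𝟙 A)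
  obtain ⟨s, hs₁, hs₂⟩ : ∃ s : R ⟶ R, s ≫ p₁ = p₂ ∧ s ≫ p₂ = p₁ :=
    (hR R).2.symm ⟨𝟙 R, Category.id_comp _, Category.id_comp _⟩
  let Q := pullback p₂ p₁
  obtain ⟨t, ht₁, ht₂⟩ : ∃ t : Q ⟶ R,
      t ≫ p₁ = pullback.fst p₂ p₁ ≫ p₁ ∧ t ≫ p₂ = pullback.snd p₂ p₁ ≫ p₂ :=
    (hR Q).2.trans ⟨pullback.fst p₂ p₁, rfl, rfl⟩ ⟨pullback.snd p₂ p₁, pullback.condition.symm, rfl⟩
  have hQ := (IsPullback.of_hasPullback p₂ p₁).map (P k)
  intro T
  refine ⟨fun a b hab => ?_, ⟨fun a => ?_, fun {a b} h => ?_, fun {a b c} h h' => ?_⟩⟩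
  · rw [← cancel_mono ((P k).map j)]
    have hl := mapIsLimitOfPreservesOfIsLimit (P k) (prod.fst : A ⨯ A ⟶ A) prod.snd (prodIsProd A A)
    refine BinaryFan.IsLimit.hom_ext hl ?_ ?_
    · change (a ≫ (P k).map j) ≫ (P k).map prod.fst = (b ≫ (P k).map j) ≫ (P k).map prod.fst
      simp only [Category.assoc, ← Functor.map_comp, j, prod.lift_fst]
      exact congrArg Prod.fst hab
    · change (a ≫ (P k).map j) ≫ (P k).map prod.snd = (b ≫ (P k).map j) ≫ (P k).map prod.snd
      simp only [Category.assoc, ← Functor.map_comp, j, prod.lift_snd]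
      exact congrArg Prod.snd hab
  · exact ⟨a ≫ (P k).map r, by rw [Category.assoc, ← Functor.map_comp, hr₁]; simp,
      by rw [Category.assoc, ← Functor.map_comp, hr₂]; simp⟩
  · obtain ⟨f, rfl, rfl⟩ := h
    exact ⟨f ≫ (P k).map s, by rw [Category.assoc, ← Functor.map_comp, hs₁],
      by rw [Category.assoc, ← Functor.map_comp, hs₂]⟩
  · obtain ⟨f, rfl, rfl⟩ := h
    obtain ⟨g, hg, rfl⟩ := h'
    refine ⟨hQ.lift f g hg.symm ≫ (P k).map t, ?_, ?_⟩
    · rw [Category.assoc, ← Functor.map_comp, ht₁, Functor.map_comp, hQ.lift_fst_assoc]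
    · rw [Category.assoc, ← Functor.map_comp, ht₂, Functor.map_comp, hQ.lift_snd_assoc]

variable [∀ ι : Type u, HasColimitsOfShape (Discrete ι) E] [HasCoequalizers E]

theorem effectiveEquivRel_of_family {R A : E} (p₁ p₂ : R ⟶ A) (hR : SGA4.IsEquivRel p₁ p₂) :
    SGA4.IsEffectiveUniversalEquivRel p₁ p₂ := by
  let B := coequalizer p₁ p₂
  let π : A ⟶ B := coequalizer.π p₁ p₂
  obtain ⟨r, hr₁, hr₂⟩ : ∃ r : A ⟶ R, r ≫ p₁ = 𝟙 A ∧ r ≫ p₂ = 𝟙 A := (hR A).2.refl (𝟙 A)
  have hcomp : ∀ k, IsPullback ((P k).map p₁) ((P k).map p₂) ((P k).map π) ((P k).map π) := fun k => by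
    have := hP.coeq k
    obtain ⟨B', π', hpb, hpo, -⟩ := effectiveEquivRel_sh (Js k) _ _ (isEquivRel_map hP p₁ p₂ hR k)
    have hc := isColimitCoforkMapOfIsColimit (P k) (coequalizer.condition p₁ p₂) (coequalizerIsCoequalizer p₁ p₂)
    have hw : (P k).map p₁ ≫ (P k).map π = (P k).map p₂ ≫ (P k).map π := by
      rw [← Functor.map_comp, ← Functor.map_comp, coequalizer.condition]
    let φ : (P k).obj B ⟶ B' := Cofork.IsColimit.desc hc π' hpb.w
    have hφ : (P k).map π ≫ φ = π' := Cofork.IsColimit.π_desc' hc _ _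
    let ψ : B' ⟶ (P k).obj B := hpo.desc _ _ hw
    have hψ : π' ≫ ψ = (P k).map π := hpo.inl_desc _ _ _
    have e : IsIso φ := ⟨ψ, Cofork.IsColimit.hom_ext hc (by
        change (P k).map π ≫ φ ≫ ψ = (P k).map π ≫ 𝟙 _
        rw [← Category.assoc, hφ, hψ, Category.comp_id]),
      hpo.hom_ext (by rw [← Category.assoc, hψ, hφ, Category.comp_id])
        (by rw [← Category.assoc, hψ, hφ, Category.comp_id])⟩
    refine IsPullback.of_iso hpb (Iso.refl _) (Iso.refl _) (Iso.refl _) (asIso φ).symm
      (by simp) (by simp) ?_ ?_ <;>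
    · simp only [Iso.refl_hom, Category.id_comp, Iso.symm_hom, asIso_inv, IsIso.comp_inv_eq]
      exact hφ.symm
  have hw : p₁ ≫ π = p₂ ≫ π := coequalizer.condition _ _
  have hpb : IsPullback p₁ p₂ π π := by
    have : IsIso (pullback.lift p₁ p₂ hw) := hP.cons _ fun k => by
      have := hP.finLim k
      have h' := (IsPullback.of_hasPullback π π).map (P k)
      have e : (P k).map (pullback.lift p₁ p₂ hw) = ((hcomp k).isoIsPullback _ _ h').hom :=
        h'.hom_ext (by rw [← Functor.map_comp, pullback.lift_fst, IsPullback.isoIsPullback_hom_fst])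
          (by rw [← Functor.map_comp, pullback.lift_snd, IsPullback.isoIsPullback_hom_snd])
      rw [e]; infer_instance
    exact IsPullback.of_iso_pullback ⟨hw⟩ (asIso (pullback.lift p₁ p₂ hw))
      (pullback.lift_fst _ _ _) (pullback.lift_snd _ _ _)
  refine ⟨B, π, hpb, ⟨⟨hw⟩, ⟨?_⟩⟩, fun B' g => ?_⟩
  · have hdiag : ∀ s : PushoutCocone p₁ p₂, s.inl = s.inr := fun s => by
      have := r ≫= s.condition
      rwa [reassoc_of% hr₁, reassoc_of% hr₂] at this
    exact PushoutCocone.IsColimit.mk hw
      (fun s => coequalizer.desc s.inl (by rw [s.condition, ← hdiag s]))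
      (fun s => coequalizer.π_desc _ _)
      (fun s => (coequalizer.π_desc _ _).trans (hdiag s))
      (fun s m h _ => coequalizer.hom_ext (h.trans (coequalizer.π_desc _ _).symm))
  · let q := pullback.snd π g
    let d : coequalizer (pullback.fst q q) (pullback.snd q q) ⟶ B' :=
      coequalizer.desc q pullback.condition
    have : IsIso d := hP.cons _ fun k => by
      have := hP.finLim k
      have := hP.coeq k
      have := isRegularEpiCategory_sh (Js k)
      have : Epi ((P k).map π) := inferInstance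
      have : Epi ((P k).map q) :=
        Groth.Agent.Topos.epi_of_isPullback ((IsPullback.of_hasPullback π g).map (P k))
      have : IsRegularEpi ((P k).map q) := IsRegularEpiCategory.regularEpiOfEpi _
      have hd : (P k).map (coequalizer.π (pullback.fst q q) (pullback.snd q q)) ≫ (P k).map d =
          (P k).map q := by rw [← Functor.map_comp, coequalizer.π_desc]
      have hkp := (IsPullback.of_hasPullback q q).map (P k)
      have hcw : (P k).map (pullback.fst q q) ≫ (P k).map (coequalizer.π (pullback.fst q q) (pullback.snd q q)) =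
          (P k).map (pullback.snd q q) ≫ (P k).map (coequalizer.π (pullback.fst q q) (pullback.snd q q)) := by
        rw [← Functor.map_comp, ← Functor.map_comp, coequalizer.condition]
      have hk : ∀ {Z : Sheaf (Js k) (Type u)} (g₁ g₂ : Z ⟶ _),
          g₁ ≫ (P k).map q = g₂ ≫ (P k).map q →
            g₁ ≫ (P k).map (coequalizer.π (pullback.fst q q) (pullback.snd q q)) =
            g₂ ≫ (P k).map (coequalizer.π (pullback.fst q q) (pullback.snd q q)) := fun g₁ g₂ h => by
        conv_lhs => rw [← hkp.lift_fst g₁ g₂ h]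
        conv_rhs => rw [← hkp.lift_snd g₁ g₂ h]
        rw [Category.assoc, Category.assoc, hcw]
      refine ⟨EffectiveEpi.desc _ _ hk, ?_, ?_⟩
      · rw [← cancel_epi ((P k).map (coequalizer.π (pullback.fst q q) (pullback.snd q q))),
          reassoc_of% hd, EffectiveEpi.fac, Category.comp_id]
      · rw [← cancel_epi ((P k).map q), ← Category.assoc, EffectiveEpi.fac, hd, Category.comp_id]
    have e : coequalizer.π (pullback.fst q q) (pullback.snd q q) ≫ d = q := coequalizer.π_desc _ _
    change EffectiveEpi q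
    rw [← e]
    infer_instance

theorem disjointUniversal_of_family : SGA4.HasDisjointUniversalCoproducts.{v, u} E := by
  intro ι X
  let c : Cofan X := Cofan.mk (∐ X) (Sigma.ι X)
  have hc : IsColimit c := coproductIsCoproduct X
  have hmc : ∀ k, IsColimit (Cofan.mk ((P k).obj (∐ X)) fun i => (P k).map (Sigma.ι X i)) := fun k =>
    have := hP.coprod k ι
    isColimitCofanMkObjOfIsColimit (P k) X (Sigma.ι X) hc
  have hmono : ∀ i, Mono (c.inj i) := fun i => mono_of_map_mono hP _ fun k => by
    have := hP.coprod k ι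
    exact (coproductDisjoint_sh (Js k) fun i => (P k).obj (X i)).mono_inj (hmc k) i
  have : HasColimitsOfShape (Discrete PEmpty.{1}) E :=
    hasColimitsOfShape_of_equivalence (Discrete.equivalence (Equiv.equivPEmpty PEmpty.{u + 1}))
  refine ⟨c, hc, ?_, ?_⟩
  · refine CoproductDisjoint.of_cofan hc
      (fun {i j} _ => (IsPullback.of_hasPullback (c.inj i) (c.inj j)).cone)
      (fun {i j} _ => (IsPullback.of_hasPullback (c.inj i) (c.inj j)).isLimit) fun {i j} hij => ?_
    change IsInitial (pullback (c.inj i) (c.inj j))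
    have : IsIso (initial.to (pullback (c.inj i) (c.inj j))) := hP.cons _ fun k => by
      have := hP.finLim k
      have := hP.coprod k ι
      have := hP.coprod k PEmpty.{u + 1}
      have : PreservesColimitsOfShape (Discrete PEmpty.{1}) (P k) :=
        preservesColimitsOfShape_of_equiv (Discrete.equivalence (Equiv.equivPEmpty PEmpty.{u + 1})) (P k)
      obtain ⟨h₂⟩ := CoproductDisjoint.nonempty_isInitial_of_ne
        (X := fun i => (P k).obj (X i)) (hmc k) hij
        ((IsPullback.of_hasPullback (c.inj i) (c.inj j)).map (P k)).cone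
        ((IsPullback.of_hasPullback (c.inj i) (c.inj j)).map (P k)).isLimit
        (self := coproductDisjoint_sh (Js k) fun i => (P k).obj (X i))
      have h₁ : IsInitial ((P k).obj (⊥_ E)) := IsInitial.isInitialObj (P k) _ initialIsInitial
      exact ⟨h₂.to _, h₁.hom_ext _ _, h₂.hom_ext _ _⟩
    exact initialIsInitial.ofIso (asIso (initial.to (pullback (c.inj i) (c.inj j))))
  · intro F' c' α f hα _ hsq
    have hF' : HasColimit F' := inferInstance
    have : IsIso (colimit.desc F' c') := hP.cons _ fun k => by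
      have := hP.finLim k
      have := hP.coprod k ι
      have hu : IsUniversalColimit ((P k).mapCocone c) := by
        let Xk : ι → Sheaf (Js k) (Type u) := fun i => (P k).obj (X i)
        let e : Discrete.functor X ⋙ P k ⟶ Discrete.functor Xk := Discrete.natTrans fun i => 𝟙 _
        have : IsIso e := by
          have : ∀ i, IsIso (e.app i) := fun i => by dsimp [e]; infer_instance
          exact NatIso.isIso_of_isIso_app e
        have h1 := (isUniversalColimit_sh (Js k) Xk).precompose_isIso e
        have hc₁ := (IsColimit.precomposeHomEquiv (asIso e) _).symm (coproductIsCoproduct Xk)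
        exact h1.of_iso (hc₁.uniqueUpToIso (isColimitOfPreserves (P k) hc))
      obtain ⟨h'⟩ := hu ((P k).mapCocone c') (Functor.whiskerRight α (P k)) ((P k).map f)
        (NatTrans.ext (funext fun i => by simpa using congrArg (fun t => (P k).map (NatTrans.app t i)) hα))
        (NatTrans.Equifibered.of_discrete _) fun i => (hsq i).map (P k)
      have hcol := isColimitOfPreserves (P k) (colimit.isColimit F')
      have e : (P k).map (colimit.desc F' c') = (hcol.coconePointUniqueUpToIso h').hom :=
        hcol.hom_ext fun i => by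
          rw [IsColimit.comp_coconePointUniqueUpToIso_hom]
          change (P k).map (colimit.ι F' i) ≫ (P k).map _ = (P k).map _
          rw [← Functor.map_comp, colimit.ι_desc]
      rw [e]; infer_instance
    exact ⟨(colimit.isColimit F').ofPointIso (i := this)⟩

end Groth.Agent.Giraud
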