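import Groth.Agent.Lib.Giraud.Equiv
import Groth.Agent.Lib.Giraud.Pointwise

/-!
# Topoi built from jointly conservative families
-/

set_option autoImplicit false

universe w v u

open CategoryTheory CategoryTheory.Limits Opposite

namespace Groth.Agent.Giraud

/-- A category with an exact jointly conservative family to sheaf topoi and a small detecting
family is a topos. -/
theorem isTopos_of_family {E : Type v} [Category.{u} E] [HasFiniteLimits E]
    [∀ ι : Type u, HasColimitsOfShape (Discrete ι) E] [HasCoequalizers E]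
    {κ : Type w} {Cs : κ → Type u} [∀ k, SmallCategory (Cs k)]
    {Js : ∀ k, GrothendieckTopology (Cs k)} {P : ∀ k, E ⥤ Sheaf (Js k) (Type u)}
    (hP : IsExactFamily P) {ι : Type u} (F : ι → E)
    (hdet : ∀ {B X : E} (m : B ⟶ X) [Mono m],
      (∀ i (t : F i ⟶ X), ∃ g, g ≫ m = t) → IsIso m) :
    SGA4.IsTopos.{v, u} E :=
  isTopos (G := inducedFunctor F)
    ⟨disjointUniversal_of_family hP, fun _ _ p₁ p₂ h => effectiveEquivRel_of_family hP p₁ p₂ h, hdet⟩

theorem isTopos_of_equiv {E : Type v} [Category.{u} E] {E' : Type w} [Category.{u} E']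
    (e : E ≌ E') (h : SGA4.IsTopos.{w, u} E') : SGA4.IsTopos.{v, u} E := by
  obtain ⟨C, _, J, ⟨e'⟩⟩ := h
  exact ⟨C, inferInstance, J, ⟨e.trans e'⟩⟩

end Groth.Agent.Giraud
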