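import Groth.Prelude.Def_SGA4a
import Groth.Agent.Lib.ToposFin.Main
import Mathlib.CategoryTheory.Sites.RegularEpi
import Mathlib.CategoryTheory.Limits.Shapes.RegularMono

/-!
# Categories of sheaves of sets satisfy Giraud's axioms
-/

set_option autoImplicit false

universe u

open CategoryTheory CategoryTheory.Limits Opposite ToposFin

namespace Groth.Agent.Giraud

open Groth.Agent.Topos

variable {C : Type u} [SmallCategory C] (J : GrothendieckTopology C)

theorem isRegularEpiCategory_sh : IsRegularEpiCategory (Sheaf J (Type u)) := inferInstance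

theorem coproductDisjoint_sh {ι : Type u} (X : ι → Sheaf J (Type u)) : CoproductDisjoint X := by
  have : ∀ i, Mono ((Cofan.mk (∐ X) (Sigma.ι X)).inj i) := mono_sigma_ι X
  refine CoproductDisjoint.of_cofan (c := Cofan.mk (∐ X) (Sigma.ι X)) (coproductIsCoproduct X)
    (fun {i j} _ => (IsPullback.of_hasPullback (Sigma.ι X i) (Sigma.ι X j)).cone)
    (fun {i j} _ => (IsPullback.of_hasPullback (Sigma.ι X i) (Sigma.ι X j)).isLimit)
    fun {i j} hij => ?_
  change IsInitial (pullback (Sigma.ι X i) (Sigma.ι X j))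
  refine initialIsInitial.ofIso (Classical.choice (nonempty_iso_initial fun U s => ?_)).symm
  exact sigma_ι_disjoint X hij ((pullback.fst (Sigma.ι X i) (Sigma.ι X j)).hom.app _ s)
    ((pullback.snd (Sigma.ι X i) (Sigma.ι X j)).hom.app _ s) (app_congr pullback.condition _ s)

theorem isUniversalColimit_sh {ι : Type u} (X : ι → Sheaf J (Type u)) :
    IsUniversalColimit (Cofan.mk (∐ X) (Sigma.ι X)) := by
  intro F' c' α f hα _ hP
  let P : ι → Sheaf J (Type u) := fun i => F'.obj ⟨i⟩
  let q : ∀ i, P i ⟶ c'.pt := fun i => c'.ι.app ⟨i⟩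
  let p : ∀ i, P i ⟶ X i := fun i => α.app ⟨i⟩
  have sq : ∀ i, IsPullback (p i) (q i) (Sigma.ι X i) f := fun i => (hP ⟨i⟩).flip
  have hepi : Epi (Sigma.desc q) :=
    jepi_isPullback (Sigma.ι X) (jepi_sigma_ι X) f p q sq
  have hmono : Mono (Sigma.desc q) := by
    have inj : ∀ (U : Cᵒᵖ), Function.Injective ((Sigma.desc q).hom.app U) := by
      rintro ⟨U⟩ s t hst
      have hcov := (jepi_iff _).1 (jepi_sigma_ι P) U
      refine ((isSheaf_iff_isSheaf_of_type J _).1 (∐ P).property _
        (J.intersection_covering (hcov s) (hcov t))).isSeparatedFor.ext ?_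
      rintro V g ⟨⟨i, a, ha⟩, ⟨k, b, hb⟩⟩
      have e : (q i).hom.app (op V) a = (q k).hom.app (op V) b := by
        have h1 := app_congr (Limits.Sigma.ι_desc q i) (op V) a
        have h2 := app_congr (Limits.Sigma.ι_desc q k) (op V) b
        rw [comp_app_apply, ha, NatTrans.naturality_apply, hst, ← NatTrans.naturality_apply, ← hb,
          ← comp_app_apply] at h1
        exact h1.symm.trans h2
      have e' : (Sigma.ι X i).hom.app (op V) ((p i).hom.app (op V) a) =
          (Sigma.ι X k).hom.app (op V) ((p k).hom.app (op V) b) := by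
        rw [← comp_app_apply, ← comp_app_apply, (sq i).w, (sq k).w, comp_app_apply, comp_app_apply, e]
      rw [← ha, ← hb]
      by_cases hik : i = k
      · subst hik
        have hm := mono_sigma_ι X i
        have hab : a = b := by
          obtain ⟨z, -, hz⟩ := exists_section_of_isPullback (sq i) ((p i).hom.app (op V) a)
            ((q i).hom.app (op V) a) (app_congr (sq i).w (op V) a)
          exact (hz a ⟨rfl, rfl⟩).trans
            (hz b ⟨(injective_app_of_mono (Sigma.ι X i) (op V) e').symm, e.symm⟩).symm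
        rw [hab]
      · have hbot : (⊥ : Sieve V) ∈ J V := sigma_ι_disjoint X hik _ _ e'
        exact ((isSheaf_iff_isSheaf_of_type J _).1 (∐ P).property _ hbot).isSeparatedFor.ext
          fun _ _ h => h.elim
    refine (sheafToPresheaf J (Type u)).mono_of_mono_map ?_
    have : ∀ U, Mono ((Sigma.desc q).hom.app U) := fun U => (mono_iff_injective _).2 (inj U)
    change Mono (Sigma.desc q).hom
    exact NatTrans.mono_of_mono_app _
  have := isIso_of_mono_of_epi (Sigma.desc q)
  let c'' : Cocone (Discrete.functor P) :=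
    { pt := c'.pt, ι := Discrete.natTrans fun ⟨i⟩ => q i }
  refine ⟨?_⟩
  refine IsColimit.mk (fun s => inv (Sigma.desc q) ≫ Sigma.desc fun i => s.ι.app ⟨i⟩)
    (fun s ⟨i⟩ => ?_) (fun s m hm => ?_)
  · change q i ≫ _ = _
    rw [← Limits.Sigma.ι_desc q i, Category.assoc, IsIso.hom_inv_id_assoc, Limits.Sigma.ι_desc]
  · rw [IsIso.eq_inv_comp]
    refine Limits.Sigma.hom_ext _ _ fun i => ?_
    rw [Limits.Sigma.ι_desc_assoc, Limits.Sigma.ι_desc]
    exact hm ⟨i⟩

theorem hasDisjointUniversalCoproducts_sh :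
    SGA4.HasDisjointUniversalCoproducts.{u + 1, u} (Sheaf J (Type u)) := fun _ X =>
  ⟨Cofan.mk (∐ X) (Sigma.ι X), coproductIsCoproduct X, coproductDisjoint_sh J X,
    isUniversalColimit_sh J X⟩

theorem effectiveEquivRel_sh {R A : Sheaf J (Type u)} (p₁ p₂ : R ⟶ A)
    (hR : SGA4.IsEquivRel p₁ p₂) : SGA4.IsEffectiveUniversalEquivRel p₁ p₂ := by
  have := isRegularEpiCategory_sh J
  let rel : ∀ (U : Cᵒᵖ), A.obj.obj U → A.obj.obj U → Prop := fun U a b =>
    ∃ r : R.obj.obj U, p₁.hom.app U r = a ∧ p₂.hom.app U r = b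
  have hrel : ∀ U, Equivalence (rel U) := by
    rintro ⟨U⟩
    have key : ∀ a b, rel (op U) a b ↔
        ∃ f : eps J U ⟶ R, f ≫ p₁ = epsDesc J a ∧ f ≫ p₂ = epsDesc J b := by
      intro a b
      constructor
      · rintro ⟨r, rfl, rfl⟩
        exact ⟨epsDesc J r, eps_hom_ext J _ _ (by simp [comp_app_apply, epsDesc_epsSec]),
          eps_hom_ext J _ _ (by simp [comp_app_apply, epsDesc_epsSec])⟩
      · rintro ⟨f, h₁, h₂⟩
        refine ⟨f.hom.app (op U) (epsSec J (𝟙 U)), ?_, ?_⟩
        · rw [← comp_app_apply, h₁, epsDesc_epsSec]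
        · rw [← comp_app_apply, h₂, epsDesc_epsSec]
    obtain ⟨-, ⟨hr, hs, ht⟩⟩ := hR (eps J U)
    exact ⟨fun a => (key a a).2 (hr _), fun {a b} h => (key b a).2 (hs ((key a b).1 h)),
      fun {a b c} h h' => (key a c).2 (ht ((key a b).1 h) ((key b c).1 h'))⟩
  let st : ∀ U, Setoid (A.obj.obj U) := fun U => ⟨rel U, hrel U⟩
  let Q₀ : Cᵒᵖ ⥤ Type u :=
    { obj := fun U => Quotient (st U)
      map := fun {U V} g => TypeCat.ofHom (Quotient.map (fun a => A.obj.map g a) (by
        rintro a b ⟨r, rfl, rfl⟩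
        exact ⟨R.obj.map g r, by rw [NatTrans.naturality_apply], by rw [NatTrans.naturality_apply]⟩))
      map_id := fun U => by
        ext x; induction x using Quotient.inductionOn
        simp
      map_comp := fun {U V W} g h => by
        ext x; induction x using Quotient.inductionOn
        simp }
  let π₀ : A.obj ⟶ Q₀ :=
    { app := fun U => TypeCat.ofHom fun a => Quotient.mk (st U) a
      naturality := fun U V g => by ext a; rfl }
  let B := (presheafToSheaf J (Type u)).obj Q₀
  let π : A ⟶ B := ⟨π₀ ≫ toSheafify J Q₀⟩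
  have hw : p₁ ≫ π = p₂ ≫ π := by
    refine ObjectProperty.hom_ext _ (NatTrans.ext (funext fun U => ?_))
    ext r
    change (toSheafify J Q₀).app U (π₀.app U (p₁.hom.app U r)) =
      (toSheafify J Q₀).app U (π₀.app U (p₂.hom.app U r))
    congr 1
    exact Quotient.sound ⟨r, rfl, rfl⟩
  have hls : Presheaf.IsLocallySurjective J (toSheafify J Q₀) := inferInstance
  have hli : Presheaf.IsLocallyInjective J (toSheafify J Q₀) := inferInstance
  have hepi : Epi π := by
    refine (epi_iff_lift π).2 fun U s => J.superset_covering ?_ (Presheaf.imageSieve_mem J (toSheafify J Q₀) s)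
    rintro V g ⟨t, ht⟩
    obtain ⟨a, rfl⟩ := Quotient.exists_rep t
    exact ⟨PUnit.unit, a, ht⟩
  have hpb : IsPullback p₁ p₂ π π := by
    refine isPullback_of_sections hw (fun ⟨U⟩ x y h₁ h₂ => ?_) (fun ⟨U⟩ a b e => ?_)
    · have h := (hR (eps J U)).1 (a₁ := epsDesc J x) (a₂ := epsDesc J y) (Prod.ext
        (eps_hom_ext J _ _ (by simpa [comp_app_apply, epsDesc_epsSec] using h₁))
        (eps_hom_ext J _ _ (by simpa [comp_app_apply, epsDesc_epsSec] using h₂)))
      have := app_congr h (op U) (epsSec J (𝟙 U))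
      simpa [epsDesc_epsSec] using this
    · have hS : Presheaf.equalizerSieve (F := Q₀) (X := op U) (π₀.app (op U) a) (π₀.app (op U) b) ∈ J U :=
        Presheaf.equalizerSieve_mem J (toSheafify J Q₀) _ _ e
      let S := Presheaf.equalizerSieve (F := Q₀) (X := op U) (π₀.app (op U) a) (π₀.app (op U) b)
      have hex : ∀ ⦃V : C⦄ (g : V ⟶ U), S g → rel (op V) (A.obj.map g.op a) (A.obj.map g.op b) :=
        fun V g hg => Quotient.exact (s := st (op V)) hg
      let φ : Presieve.FamilyOfElements R.obj (S : Presieve U) := fun V g hg => (hex g hg).choose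
      have uniq : ∀ ⦃W : C⦄ (x y : R.obj.obj (op W)), p₁.hom.app _ x = p₁.hom.app _ y →
          p₂.hom.app _ x = p₂.hom.app _ y → x = y := fun W x y h₁ h₂ => by
        have h := (hR (eps J W)).1 (a₁ := epsDesc J x) (a₂ := epsDesc J y) (Prod.ext
          (eps_hom_ext J _ _ (by simpa [comp_app_apply, epsDesc_epsSec] using h₁))
          (eps_hom_ext J _ _ (by simpa [comp_app_apply, epsDesc_epsSec] using h₂)))
        have := app_congr h (op W) (epsSec J (𝟙 W))
        simpa [epsDesc_epsSec] using this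
      have hφ : φ.Compatible := by
        intro V₁ V₂ W g₁ g₂ f₁ f₂ h₁ h₂ he
        refine uniq _ _ ?_ ?_
        · rw [NatTrans.naturality_apply, NatTrans.naturality_apply, (hex f₁ h₁).choose_spec.1,
            (hex f₂ h₂).choose_spec.1, ← Functor.map_comp_apply, ← Functor.map_comp_apply, ← op_comp,
            ← op_comp, he]
        · rw [NatTrans.naturality_apply, NatTrans.naturality_apply, (hex f₁ h₁).choose_spec.2,
            (hex f₂ h₂).choose_spec.2, ← Functor.map_comp_apply, ← Functor.map_comp_apply, ← op_comp,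
            ← op_comp, he]
      have hsh := (isSheaf_iff_isSheaf_of_type J R.obj).1 R.property _ hS
      refine ⟨hsh.amalgamate φ hφ, ?_, ?_⟩
      · refine ((isSheaf_iff_isSheaf_of_type J A.obj).1 A.property _ hS).isSeparatedFor.ext fun V g hg => ?_
        rw [← NatTrans.naturality_apply, hsh.valid_glue hφ g hg, (hex g hg).choose_spec.1]
      · refine ((isSheaf_iff_isSheaf_of_type J A.obj).1 A.property _ hS).isSeparatedFor.ext fun V g hg => ?_
        rw [← NatTrans.naturality_apply, hsh.valid_glue hφ g hg, (hex g hg).choose_spec.2]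
  have : IsRegularEpi π := IsRegularEpiCategory.regularEpiOfEpi π
  refine ⟨B, π, hpb, ⟨⟨hw⟩, ⟨?_⟩⟩, fun B' g => ?_⟩
  · have hdiag : ∀ s : PushoutCocone p₁ p₂, s.inl = s.inr := fun s => by
      obtain ⟨d, hd₁, hd₂⟩ : ∃ d : A ⟶ R, d ≫ p₁ = 𝟙 A ∧ d ≫ p₂ = 𝟙 A := (hR A).2.refl (𝟙 A)
      have := d ≫= s.condition
      rwa [reassoc_of% hd₁, reassoc_of% hd₂] at this
    have hk : ∀ (s : PushoutCocone p₁ p₂) {Z : Sheaf J (Type u)} (g₁ g₂ : Z ⟶ A),
        g₁ ≫ π = g₂ ≫ π → g₁ ≫ s.inl = g₂ ≫ s.inl := fun s Z g₁ g₂ h => by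
      conv_lhs => rw [← hpb.lift_fst g₁ g₂ h]
      conv_rhs => rw [← hpb.lift_snd g₁ g₂ h]
      rw [Category.assoc, Category.assoc, s.condition, ← hdiag s]
    exact PushoutCocone.IsColimit.mk hw (fun s => EffectiveEpi.desc π s.inl (hk s))
      (fun s => EffectiveEpi.fac π _ (hk s))
      (fun s => (EffectiveEpi.fac π _ (hk s)).trans (hdiag s))
      (fun s m h _ => by rw [← cancel_epi π, h, EffectiveEpi.fac π _ (hk s)])
  · have := epi_of_isPullback (IsPullback.of_hasPullback π g)
    have : IsRegularEpi (pullback.snd π g) := IsRegularEpiCategory.regularEpiOfEpi _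
    infer_instance

end Groth.Agent.Giraud
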